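import Cfsg.Agent.Lib.Helper72.CTI.TransOf
import Cfsg.Agent.Lib.Helper62.CTI.CSE
import Cfsg.Agent.Lib.Helper62.CTI.CInv
import Cfsg.Agent.Lib.Helper62.CTI.CDA
import Cfsg.Agent.Lib.Helper62.CTI.CDB
import Cfsg.Agent.Lib.Helper31.CTI.CThreeOf

/-!
# Project CTI (S4064), module [C-TRANS], exact sheet statement
-/

set_option autoImplicit false

namespace Cfsg.Agent.Lib.Helper72.CTI

open Cfsg Cfsg.Agent.Lib.Helper31.CTI

variable {G : Type*} [Group G] {M N : Subgroup G}

/-- [C-THREE] in exact form, assembled from the landed [C-SE], [C-INV], [C-DB] and helper31's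
`cdata_fix_three_of` (suffixed name, so that it cannot clash with the sheet's own). -/
theorem cdata_fix_three_h72 [Finite G] (h : CData M N) (g : G) (a b c : G ⧸ N) (hab : a ≠ b)
    (hbc : b ≠ c) (hac : a ≠ c) (ha : g • a = a) (hb : g • b = b) (hc : g • c = c) : g = 1 :=
  cdata_fix_three_of h (cdata_stronglyEmbedded h)
    (fun _ htN ht => (cdata_involution h htN ht).1)
    (fun _ hu huN => cdata_dSub_inverts h hu huN) g a b c hab hbc hac ha hb hc

end Cfsg.Agent.Lib.Helper72.CTI

namespace Cfsg.Agent.Lib.Helper31.CTI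

open Cfsg

variable {G : Type*} [Group G] {M N : Subgroup G}

/-- [C-TRANS] `M` is regular on the points other than the base point. -/
theorem cdata_M_regular [Finite G] (h : CData M N) (x y : G ⧸ N)
    (hx : x ≠ ((1 : G) : G ⧸ N)) (hy : y ≠ ((1 : G) : G ⧸ N)) : ∃! m : M, (m : G) • x = y :=
  Cfsg.Agent.Lib.Helper72.CTI.cdata_M_regular_of h (cdata_stronglyEmbedded h)
    (fun hu huN => ⟨(cdata_dSub h hu huN).1, (cdata_dSub h hu huN).2.1⟩)
    (Cfsg.Agent.Lib.Helper72.CTI.cdata_fix_three_h72 h) x y hx hy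

end Cfsg.Agent.Lib.Helper31.CTI
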