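import Mathlib
import Cfsg.Agent.Lib.Helper31.CTI.Defs
import Cfsg.Agent.S1224

/-!
# Project CTI (S4064), module [C-TRANS] in `_of` form

`cdata_M_regular_of`: `M` is regular on the points of `G ⧸ N` other than the base point, given the
statements of [C-SE], [C-DA], [C-THREE] as hypotheses.
-/

set_option autoImplicit false

namespace Cfsg.Agent.Lib.Helper72.CTI

open Cfsg Cfsg.Agent.Lib.Helper31.CTI

variable {G : Type*} [Group G] {M N : Subgroup G}

theorem M_le_N (h : CData M N) : M ≤ N := by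
  rw [h.hN]; exact Subgroup.le_normalizer

theorem conj_mem_M_of_mem_N (h : CData M N) {n m : G} (hn : n ∈ N) (hm : m ∈ M) :
    n * m * n⁻¹ ∈ M := by
  have hn' : n ∈ Subgroup.normalizer (M : Set G) := by rw [← h.hN]; exact hn
  exact (Subgroup.mem_normalizer_iff.mp hn' m).mp hm

theorem conj_mem_M_of_mem_N' (h : CData M N) {n m : G} (hn : n ∈ N) (hm : m ∈ M) :
    n⁻¹ * m * n ∈ M := by
  have := conj_mem_M_of_mem_N h (N.inv_mem hn) hm
  simpa using this

theorem smul_base_eq_iff {g : G} : g • ((1 : G) : G ⧸ N) = ((1 : G) : G ⧸ N) ↔ g ∈ N := by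
  rw [MulAction.Quotient.smul_mk, QuotientGroup.eq]
  constructor
  · intro hg
    have : g⁻¹ ∈ N := by simpa using hg
    simpa using N.inv_mem this
  · intro hg
    simpa using N.inv_mem hg

/-- An element of `N` whose order divides `|M|` lies in `M` (`M` is a normal Hall subgroup of `N`). -/
theorem mem_M_of_orderOf_dvd [Finite G] (h : CData M N) {y : G} (hy : y ∈ N)
    (hord : orderOf y ∣ Nat.card M) : y ∈ M := by
  classical
  have hMN := M_le_N h
  have : (M.subgroupOf N).Normal := by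
    rw [h.hN]; exact Subgroup.normal_in_normalizer
  have h1 : (⟨y, hy⟩ : N) ^ (M.subgroupOf N).index ∈ M.subgroupOf N :=
    Subgroup.pow_index_mem _ _
  have h1' : y ^ (M.relIndex N) ∈ M := by
    have := Subgroup.mem_subgroupOf.mp h1
    simpa [Subgroup.relIndex] using this
  have hcop : (Nat.card M).Coprime (M.relIndex N) := by
    have hdvd : M.relIndex N ∣ M.index := Subgroup.relIndex_dvd_index_of_le hMN
    exact Nat.Coprime.coprime_dvd_right hdvd h.nice.hall
  have hcop' : (M.relIndex N).Coprime (orderOf y) :=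
    (Nat.Coprime.coprime_dvd_left hord hcop).symm
  obtain ⟨a, ha⟩ := exists_pow_eq_self_of_coprime hcop'
  rw [← ha]
  exact M.pow_mem h1' a

/-- Fact (b): a nonidentity element of `M` fixes only the base point. -/
theorem eq_base_of_smul_eq [Finite G] (h : CData M N) {m : G} (hm : m ∈ M) (hm1 : m ≠ 1)
    {x : G ⧸ N} (hx : m • x = x) : x = ((1 : G) : G ⧸ N) := by
  induction x using QuotientGroup.induction_on with
  | H g =>
    rw [MulAction.Quotient.smul_mk, QuotientGroup.eq] at hx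
    -- (m * g)⁻¹ * g ∈ N
    have h1 : g⁻¹ * m * g ∈ N := by
      have : ((m * g)⁻¹ * g)⁻¹ ∈ N := N.inv_mem hx
      have e : ((m * g)⁻¹ * g)⁻¹ = g⁻¹ * m * g := by group
      rwa [e] at this
    have hord : orderOf (g⁻¹ * m * g) ∣ Nat.card M := by
      have e : g⁻¹ * m * g = (MulAut.conj g⁻¹) m := by simp [MulAut.conj_apply]
      rw [e, MulEquiv.orderOf_eq]
      have hh := orderOf_dvd_natCard (⟨m, hm⟩ : M)
      rwa [Subgroup.orderOf_mk] at hh
    have h2 : g⁻¹ * m * g ∈ M := mem_M_of_orderOf_dvd h h1 hord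
    have h3 : g⁻¹ ∈ Subgroup.normalizer (M : Set G) := by
      by_contra hcon
      have := h.nice.ti g⁻¹ hcon m hm (by simpa using h2)
      exact hm1 this
    have h4 : g ∈ N := by
      rw [h.hN]
      simpa using (Subgroup.normalizer (M : Set G)).inv_mem h3
    rw [QuotientGroup.eq]
    simpa using h4

/-- Elements of `dSub N u` fix the base point and its image under `u`. -/
theorem dSub_fixes {u d : G} (hd : d ∈ dSub N u) :
    d • ((1 : G) : G ⧸ N) = ((1 : G) : G ⧸ N) ∧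
      d • (u • ((1 : G) : G ⧸ N)) = u • ((1 : G) : G ⧸ N) := by
  obtain ⟨hd1, hd2⟩ := Subgroup.mem_inf.mp hd
  refine ⟨smul_base_eq_iff.mpr hd1, ?_⟩
  obtain ⟨n, hn, rfl⟩ := Subgroup.mem_map.mp hd2
  have hn' : n • ((1 : G) : G ⧸ N) = ((1 : G) : G ⧸ N) := smul_base_eq_iff.mpr hn
  simp only [MulEquiv.coe_toMonoidHom, MulAut.conj_apply]
  rw [← mul_smul]
  have e : u * n * u⁻¹ * u = u * n := by group
  rw [e, mul_smul, hn']

/-- For a point other than the base point there is an involution outside `N` carrying the base point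
to it (landed S1224). -/
theorem exists_involution_smul_base [Finite G] (hSE : Cfsg.IsStronglyEmbedded N) {x : G ⧸ N}
    (hx : x ≠ ((1 : G) : G ⧸ N)) :
    ∃ u : G, orderOf u = 2 ∧ u ∉ N ∧ u • ((1 : G) : G ⧸ N) = x := by
  classical
  have hcard := Cfsg.Agent.S1224.result N hSE ((1 : G) : G ⧸ N) x (Ne.symm hx)
  have hpos : 0 < Nat.card {t : G // orderOf t = 2 ∧ t ∈ N} := by
    have h2 : 2 ∣ Nat.card N := hSE.2.1.two_dvd
    have : Fact (Nat.Prime 2) := ⟨Nat.prime_two⟩
    obtain ⟨t, ht⟩ := exists_prime_orderOf_dvd_card' (G := N) 2 h2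
    have : Nonempty {t : G // orderOf t = 2 ∧ t ∈ N} :=
      ⟨⟨(t : G), by rw [Subgroup.orderOf_coe]; exact ht, t.2⟩⟩
    exact Nat.card_pos
  rw [← hcard] at hpos
  have : Nonempty {i : G // orderOf i = 2 ∧ i • ((1 : G) : G ⧸ N) = x} :=
    (Nat.card_pos_iff.mp hpos).1
  obtain ⟨⟨u, hu2, hux⟩⟩ := this
  refine ⟨u, hu2, ?_, hux⟩
  intro huN
  exact hx (hux ▸ (smul_base_eq_iff.mpr huN))

/-- Every element of `N` is a product `m * d` with `m ∈ M`, `d ∈ D`, for a complement `D`. -/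
theorem exists_mul_of_complement [Finite G] (h : CData M N) (D : Subgroup G) (hDN : D ≤ N)
    (hDM : D ⊓ M = ⊥) (hcard : Nat.card D * Nat.card M = Nat.card N) {n : G} (hn : n ∈ N) :
    ∃ m ∈ M, ∃ d ∈ D, n = m * d := by
  classical
  have hMN := M_le_N h
  let ψ : M × D → N := fun p => ⟨(p.1 : G) * (p.2 : G), N.mul_mem (hMN p.1.2) (hDN p.2.2)⟩
  have hinj : Function.Injective ψ := by
    rintro ⟨⟨m, hm⟩, ⟨d, hd⟩⟩ ⟨⟨m', hm'⟩, ⟨d', hd'⟩⟩ hp
    have hp' : m * d = m' * d' := by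
      have := congrArg (fun z : N => (z : G)) hp
      simpa [ψ] using this
    have hkey : m'⁻¹ * m = d' * d⁻¹ := by
      have : m'⁻¹ * (m * d) * d⁻¹ = m'⁻¹ * (m' * d') * d⁻¹ := by rw [hp']
      simpa [mul_assoc] using this
    have hin : d' * d⁻¹ ∈ D ⊓ M :=
      Subgroup.mem_inf.mpr ⟨D.mul_mem hd' (D.inv_mem hd), hkey ▸ M.mul_mem (M.inv_mem hm') hm⟩
    rw [hDM, Subgroup.mem_bot] at hin
    have hd_eq : d' = d := by
      have := mul_inv_eq_one.mp hin
      exact this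
    have hm_eq : m = m' := by
      rw [hin] at hkey
      have := inv_mul_eq_one.mp hkey
      exact this.symm
    subst hd_eq; subst hm_eq; rfl
  have hle : Nat.card N ≤ Nat.card (M × D) := by
    rw [Nat.card_prod, ← hcard, mul_comm]
  have hbij : Function.Bijective ψ := hinj.bijective_of_nat_card_le hle
  obtain ⟨⟨⟨m, hm⟩, ⟨d, hd⟩⟩, hp⟩ := hbij.2 ⟨n, hn⟩
  refine ⟨m, hm, d, hd, ?_⟩
  have := congrArg (fun z : N => (z : G)) hp
  simpa [ψ] using this.symm

/-- Step (1): every element of `N ∖ M` is `M`-conjugate to a nonidentity element of a complement. -/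
theorem exists_conj_of_not_mem [Finite G] (h : CData M N) (D : Subgroup G) (hDN : D ≤ N)
    (hDM : D ⊓ M = ⊥) (hcard : Nat.card D * Nat.card M = Nat.card N) {n : G} (hn : n ∈ N)
    (hnM : n ∉ M) : ∃ m ∈ M, ∃ d ∈ D, d ≠ 1 ∧ n = m * d * m⁻¹ := by
  classical
  obtain ⟨m0, hm0, d, hd, rfl⟩ := exists_mul_of_complement h D hDN hDM hcard hn
  have hd1 : d ≠ 1 := by
    rintro rfl
    exact hnM (by simpa using hm0)
  have hdN : d ∈ N := hDN hd
  let φ : M → M := fun m =>
    ⟨(m : G) * (d * (m : G)⁻¹ * d⁻¹), M.mul_mem m.2 (conj_mem_M_of_mem_N h hdN (M.inv_mem m.2))⟩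
  have hinj : Function.Injective φ := by
    rintro ⟨m, hm⟩ ⟨m', hm'⟩ hp
    have hp' : m * (d * m⁻¹ * d⁻¹) = m' * (d * m'⁻¹ * d⁻¹) := by
      have := congrArg (fun z : M => (z : G)) hp
      simpa [φ] using this
    -- (m'⁻¹ m) commutes with d
    have hcomm : (m'⁻¹ * m) * d = d * (m'⁻¹ * m) := by
      have e1 : m * d * m⁻¹ = m' * d * m'⁻¹ := by
        have := congrArg (fun z => z * d) hp'
        simpa [mul_assoc] using this
      have e2 : m'⁻¹ * (m * d * m⁻¹) * m = m'⁻¹ * (m' * d * m'⁻¹) * m := by rw [e1]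
      have e3 : m'⁻¹ * (m * d * m⁻¹) * m = (m'⁻¹ * m) * d := by group
      have e4 : m'⁻¹ * (m' * d * m'⁻¹) * m = d * (m'⁻¹ * m) := by group
      rw [e3, e4] at e2
      exact e2
    by_contra hne
    have hne' : m'⁻¹ * m ≠ 1 := by
      intro h1
      apply hne
      have : m = m' := by
        have := inv_mul_eq_one.mp h1
        exact this.symm
      subst this; rfl
    have hcent : d ∈ Subgroup.centralizer ({m'⁻¹ * m} : Set G) := by
      rw [Subgroup.mem_centralizer_iff]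
      intro z hz
      rw [Set.mem_singleton_iff] at hz
      subst hz
      exact hcomm
    have hdM : d ∈ M := h.nice.cc _ (M.mul_mem (M.inv_mem hm') hm) hne' hcent
    have : d ∈ D ⊓ M := Subgroup.mem_inf.mpr ⟨hd, hdM⟩
    rw [hDM, Subgroup.mem_bot] at this
    exact hd1 this
  have hsurj : Function.Surjective φ := Finite.injective_iff_surjective.mp hinj
  obtain ⟨⟨m, hm⟩, hp⟩ := hsurj ⟨m0, hm0⟩
  refine ⟨m, hm, d, hd, hd1, ?_⟩
  have hp' : m * (d * m⁻¹ * d⁻¹) = m0 := by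
    have := congrArg (fun z : M => (z : G)) hp
    simpa [φ] using this
  rw [← hp']
  group

/-- [C-TRANS] in `_of` form. -/
theorem cdata_M_regular_of [Finite G] (h : CData M N)
    (hSE : Cfsg.IsStronglyEmbedded N)
    (hDA : ∀ {u : G}, orderOf u = 2 → u ∉ N →
      dSub N u ⊓ M = ⊥ ∧ Nat.card (dSub N u) * Nat.card M = Nat.card N)
    (hThree : ∀ (g : G) (a b c : G ⧸ N), a ≠ b → b ≠ c → a ≠ c → g • a = a → g • b = b →
      g • c = c → g = 1)
    (x y : G ⧸ N) (hx : x ≠ ((1 : G) : G ⧸ N)) (hy : y ≠ ((1 : G) : G ⧸ N)) :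
    ∃! m : M, (m : G) • x = y := by
  classical
  have hMN := M_le_N h
  obtain ⟨u, hu2, huN, hux⟩ := exists_involution_smul_base hSE hx
  obtain ⟨u', hu'2, hu'N, hu'y⟩ := exists_involution_smul_base hSE hy
  obtain ⟨hD1, hD2⟩ := hDA hu2 huN
  obtain ⟨hD'1, hD'2⟩ := hDA hu'2 hu'N
  -- a nonidentity element of D'
  have hD'ne : dSub N u' ≠ ⊥ := by
    intro hbot
    rw [hbot, Subgroup.card_bot, one_mul] at hD'2
    exact h.lt (Subgroup.eq_of_le_of_card_ge hMN (le_of_eq hD'2.symm))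
  obtain ⟨⟨d', hd'⟩, hd'1⟩ := (Subgroup.ne_bot_iff_exists_ne_one.mp hD'ne)
  have hd'1' : d' ≠ 1 := fun hh => hd'1 (Subtype.ext hh)
  have hd'N : d' ∈ N := (Subgroup.mem_inf.mp hd').1
  have hd'M : d' ∉ M := by
    intro hh
    have : d' ∈ dSub N u' ⊓ M := Subgroup.mem_inf.mpr ⟨hd', hh⟩
    rw [hD'1, Subgroup.mem_bot] at this
    exact hd'1' this
  obtain ⟨m, hm, d, hd, hd1, hconj⟩ :=
    exists_conj_of_not_mem h (dSub N u) inf_le_left hD1 hD2 hd'N hd'M
  have hmα : m • ((1 : G) : G ⧸ N) = ((1 : G) : G ⧸ N) := smul_base_eq_iff.mpr (hMN hm)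
  -- d' fixes α, y, m • x
  have hfix' := dSub_fixes (N := N) hd'
  have hfix := dSub_fixes (N := N) hd
  rw [hu'y] at hfix'
  rw [hux] at hfix
  have hfix_mx : d' • (m • x) = m • x := by
    rw [hconj, ← mul_smul]
    have e : m * d * m⁻¹ * m = m * d := by group
    rw [e, mul_smul, hfix.2]
  have hmx_ne : ((1 : G) : G ⧸ N) ≠ m • x := by
    intro hh
    apply hx
    have : m⁻¹ • (m • x) = m⁻¹ • ((1 : G) : G ⧸ N) := by rw [← hh]
    rw [inv_smul_smul] at this
    rw [this]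
    exact smul_base_eq_iff.mpr (N.inv_mem (hMN hm))
  have hmxy : m • x = y := by
    by_contra hne
    exact hd'1' (hThree d' ((1 : G) : G ⧸ N) (m • x) y hmx_ne hne (Ne.symm hy)
      hfix'.1 hfix_mx hfix'.2)
  refine ⟨⟨m, hm⟩, hmxy, ?_⟩
  rintro ⟨m2, hm2⟩ hm2y
  have hm2y' : m2 • x = y := hm2y
  by_contra hne
  have hne' : m⁻¹ * m2 ≠ 1 := by
    intro h1
    apply hne
    have : m2 = m := by
      have := inv_mul_eq_one.mp h1
      exact this.symm
    subst this; rfl
  have hfixx : (m⁻¹ * m2) • x = x := by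
    rw [mul_smul, hm2y', ← hmxy, inv_smul_smul]
  exact hx (eq_base_of_smul_eq h (M.mul_mem (M.inv_mem hm) hm2) hne' hfixx)

end Cfsg.Agent.Lib.Helper72.CTI
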