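import Cfsg.Agent.Lib.Helper72.CTI.ZassOf
import Cfsg.Agent.Lib.Helper72.CTI.Trans

/-!
# Project CTI (S4064), module [C-ZASS], exact sheet statement
-/

set_option autoImplicit false

namespace Cfsg.Agent.Lib.Helper31.CTI

open Cfsg

variable {G : Type*} [Group G] {M N : Subgroup G}

/-- [C-ZASS] -/
theorem cdata_zassenhaus [Finite G] (h : CData M N) : Cfsg.IsZassenhausGroup G (G ⧸ N) :=
  Cfsg.Agent.Lib.Helper72.CTI.cdata_zassenhaus_of h (cdata_stronglyEmbedded h)
    (fun hu huN => ⟨(cdata_dSub h hu huN).1, (cdata_dSub h hu huN).2.1⟩)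
    (Cfsg.Agent.Lib.Helper72.CTI.cdata_fix_three_h72 h)

end Cfsg.Agent.Lib.Helper31.CTI
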