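import Mathlib
import Cfsg.Agent.Lib.Helper72.CTI.TransOf

/-!
# Project CTI (S4064), module [C-ZASS] in `_of` form

`cdata_zassenhaus_of`: in the configuration `CData M N` the group `G` is a Zassenhaus group on
`G ⧸ N`, given the statements of [C-SE], [C-DA], [C-THREE] as hypotheses.
-/

set_option autoImplicit false

namespace Cfsg.Agent.Lib.Helper72.CTI

open Cfsg Cfsg.Agent.Lib.Helper31.CTI

variable {G : Type*} [Group G] {M N : Subgroup G}

/-- A normal subgroup on which an involution acts without nontrivial fixed points is abelian. -/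
theorem comm_of_involution_fpf [Finite G] (K : Subgroup G) [K.Normal] {t : G} (ht : t * t = 1)
    (hfpf : ∀ k ∈ K, t * k * t⁻¹ = k → k = 1) : ∀ a ∈ K, ∀ b ∈ K, a * b = b * a := by
  classical
  have htinv : t⁻¹ = t := inv_eq_of_mul_eq_one_left ht
  let f : K → K := fun k =>
    ⟨(k : G)⁻¹ * (t * (k : G) * t⁻¹), K.mul_mem (K.inv_mem k.2) (Subgroup.Normal.conj_mem ‹_› _ k.2 t)⟩
  have hinj : Function.Injective f := by
    rintro ⟨k, hk⟩ ⟨l, hl⟩ hp
    have hp' : k⁻¹ * (t * k * t⁻¹) = l⁻¹ * (t * l * t⁻¹) := by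
      have := congrArg (fun z : K => (z : G)) hp
      simpa [f] using this
    have hcomm : t * (l * k⁻¹) * t⁻¹ = l * k⁻¹ := by
      have e1 : l * (k⁻¹ * (t * k * t⁻¹)) * (t * k⁻¹ * t⁻¹) = l * (l⁻¹ * (t * l * t⁻¹)) * (t * k⁻¹ * t⁻¹) := by
        rw [hp']
      have e2 : l * (k⁻¹ * (t * k * t⁻¹)) * (t * k⁻¹ * t⁻¹) = l * k⁻¹ := by group
      have e3 : l * (l⁻¹ * (t * l * t⁻¹)) * (t * k⁻¹ * t⁻¹) = t * (l * k⁻¹) * t⁻¹ := by group
      rw [e2, e3] at e1
      exact e1.symm
    have h1 := hfpf (l * k⁻¹) (K.mul_mem hl (K.inv_mem hk)) hcomm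
    have : l = k := by
      have := mul_inv_eq_one.mp h1
      exact this
    subst this; rfl
  have hsurj : Function.Surjective f := Finite.injective_iff_surjective.mp hinj
  have hinv : ∀ y ∈ K, t * y * t⁻¹ = y⁻¹ := by
    intro y hy
    obtain ⟨⟨k, hk⟩, hp⟩ := hsurj ⟨y, hy⟩
    have hp' : k⁻¹ * (t * k * t⁻¹) = y := by
      have := congrArg (fun z : K => (z : G)) hp
      simpa [f] using this
    rw [← hp', htinv]
    have e : (k⁻¹ * (t * k * t))⁻¹ = t⁻¹ * k⁻¹ * t⁻¹ * k := by group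
    rw [e, htinv]
    have e2 : t * (k⁻¹ * (t * k * t)) * t = t * k⁻¹ * t * k * (t * t) := by group
    rw [e2, ht, mul_one]
  intro a ha b hb
  have h1 := hinv (a * b) (K.mul_mem ha hb)
  have h2 := hinv a ha
  have h3 := hinv b hb
  have e : t * (a * b) * t⁻¹ = (t * a * t⁻¹) * (t * b * t⁻¹) := by group
  rw [e, h2, h3] at h1
  -- a⁻¹ * b⁻¹ = (a * b)⁻¹ = b⁻¹ * a⁻¹
  have h4 : a⁻¹ * b⁻¹ = b⁻¹ * a⁻¹ := by rw [h1]; group
  have h5 : (a⁻¹ * b⁻¹)⁻¹ = (b⁻¹ * a⁻¹)⁻¹ := by rw [h4]
  simpa using h5.symm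

/-- [C-ZASS] in `_of` form. -/
theorem cdata_zassenhaus_of [Finite G] (h : CData M N)
    (hSE : Cfsg.IsStronglyEmbedded N)
    (hDA : ∀ {u : G}, orderOf u = 2 → u ∉ N →
      dSub N u ⊓ M = ⊥ ∧ Nat.card (dSub N u) * Nat.card M = Nat.card N)
    (hThree : ∀ (g : G) (a b c : G ⧸ N), a ≠ b → b ≠ c → a ≠ c → g • a = a → g • b = b →
      g • c = c → g = 1) :
    Cfsg.IsZassenhausGroup G (G ⧸ N) := by
  classical
  have hMN := M_le_N h
  have hReg := cdata_M_regular_of h hSE hDA hThree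
  -- a point other than the base point
  obtain ⟨g0, hg0⟩ : ∃ g0 : G, g0 ∉ N := by
    by_contra hcon
    push Not at hcon
    exact h.ne_top (eq_top_iff.mpr fun g _ => hcon g)
  set α : G ⧸ N := ((1 : G) : G ⧸ N) with hα
  set x0 : G ⧸ N := ((g0 : G) : G ⧸ N) with hx0
  have hx0α : x0 ≠ α := by
    intro hh
    rw [hx0, hα, QuotientGroup.eq] at hh
    apply hg0
    have : g0⁻¹ ∈ N := by simpa using hh
    simpa using N.inv_mem this
  -- a nonidentity element of M and a third point
  obtain ⟨⟨m1, hm1⟩, hm1ne⟩ := Subgroup.ne_bot_iff_exists_ne_one.mp h.nice.ne_bot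
  have hm1ne' : m1 ≠ 1 := fun hh => hm1ne (Subtype.ext hh)
  have hm1α : m1 • α = α := smul_base_eq_iff.mpr (hMN hm1)
  have hx1x0 : x0 ≠ m1 • x0 := by
    intro hh
    exact hx0α (eq_base_of_smul_eq h hm1 hm1ne' hh.symm)
  have hx1α : α ≠ m1 • x0 := by
    intro hh
    apply hx0α
    have : m1⁻¹ • (m1 • x0) = m1⁻¹ • α := by rw [← hh]
    rw [inv_smul_smul] at this
    rw [this]
    exact smul_base_eq_iff.mpr (N.inv_mem (hMN hm1))
  -- transitivity of G on G ⧸ N towards the base point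
  have htoBase : ∀ a : G ⧸ N, ∃ g : G, g • a = α := by
    intro a
    induction a using QuotientGroup.induction_on with
    | H g =>
      refine ⟨g⁻¹, ?_⟩
      rw [MulAction.Quotient.smul_mk, hα]
      simp
  refine ⟨⟨?_⟩, ?_, hThree, ?_, ?_⟩
  · -- faithful
    intro g1 g2 hg
    have hfix : ∀ a : G ⧸ N, (g2⁻¹ * g1) • a = a := by
      intro a
      rw [mul_smul, hg a, inv_smul_smul]
    have := hThree (g2⁻¹ * g1) α x0 (m1 • x0) (Ne.symm hx0α) hx1x0 hx1α (hfix _) (hfix _) (hfix _)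
    have := inv_mul_eq_one.mp this
    exact this.symm
  · -- 2-pretransitive
    rw [MulAction.is_two_pretransitive_iff]
    intro a b c d hab hcd
    obtain ⟨g1, hg1⟩ := htoBase a
    obtain ⟨g2, hg2⟩ := htoBase c
    have hb' : g1 • b ≠ α := by
      intro hh
      apply hab
      have : g1 • a = g1 • b := by rw [hg1, hh]
      exact (MulAction.injective g1 this)
    have hd' : g2 • d ≠ α := by
      intro hh
      apply hcd
      have : g2 • c = g2 • d := by rw [hg2, hh]
      exact (MulAction.injective g2 this)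
    obtain ⟨⟨m, hm⟩, hmy, -⟩ := hReg (g1 • b) (g2 • d) hb' hd'
    have hmα : m • α = α := smul_base_eq_iff.mpr (hMN hm)
    refine ⟨g2⁻¹ * m * g1, ?_, ?_⟩
    · rw [mul_smul, mul_smul, hg1, hmα, ← hg2, inv_smul_smul]
    · have hmy' : m • (g1 • b) = g2 • d := hmy
      rw [mul_smul, mul_smul, hmy', inv_smul_smul]
  · -- a nonidentity element fixing two points
    obtain ⟨u, hu2, huN, hux⟩ := exists_involution_smul_base hSE hx0α
    obtain ⟨hD1, hD2⟩ := hDA hu2 huN
    have hDne : dSub N u ≠ ⊥ := by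
      intro hbot
      rw [hbot, Subgroup.card_bot, one_mul] at hD2
      exact h.lt (Subgroup.eq_of_le_of_card_ge hMN (le_of_eq hD2.symm))
    obtain ⟨⟨d, hd⟩, hd1⟩ := Subgroup.ne_bot_iff_exists_ne_one.mp hDne
    have hd1' : d ≠ 1 := fun hh => hd1 (Subtype.ext hh)
    have hfix := dSub_fixes (N := N) hd
    rw [hux] at hfix
    exact ⟨d, hd1', α, x0, Ne.symm hx0α, hfix.1, hfix.2⟩
  · -- no regular normal subgroup
    intro K hK hKtrans
    by_contra hcon
    push Not at hcon
    have := hK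
    -- an involution of M
    have h2M : 2 ∣ Nat.card M := h.even.two_dvd
    have : Fact (Nat.Prime 2) := ⟨Nat.prime_two⟩
    obtain ⟨⟨t, htM⟩, ht⟩ := exists_prime_orderOf_dvd_card' (G := M) 2 h2M
    have ht2 : orderOf t = 2 := by
      rw [← Subgroup.orderOf_mk t htM]; exact ht
    have ht1 : t ≠ 1 := by
      intro hh
      rw [hh, orderOf_one] at ht2
      norm_num at ht2
    have htt : t * t = 1 := by
      have := pow_orderOf_eq_one t
      rw [ht2, pow_two] at this
      exact this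
    have hfpf : ∀ k ∈ K, t * k * t⁻¹ = k → k = 1 := by
      intro k hk hkt
      have hcent : k ∈ Subgroup.centralizer ({t} : Set G) := by
        rw [Subgroup.mem_centralizer_iff]
        intro z hz
        rw [Set.mem_singleton_iff] at hz
        subst hz
        -- z * k = k * z
        have : z * k = k * z := by
          have := congrArg (fun w => w * z) hkt
          simpa [mul_assoc] using this
        exact this
      have hkN : k ∈ N := hMN (h.nice.cc t htM ht1 hcent)
      have hkα : k • α = α := smul_base_eq_iff.mpr hkN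
      have hstab : (⟨k, hk⟩ : K) ∈ MulAction.stabilizer K α := by
        rw [MulAction.mem_stabilizer_iff]
        exact hkα
      have hstab' : (⟨k, hk⟩ : K) ∈ (⊥ : Subgroup K) := (SetLike.ext_iff.mp (hcon α) _).mp hstab
      rw [Subgroup.mem_bot] at hstab'
      exact congrArg (fun z : K => (z : G)) hstab'
    have hab := comm_of_involution_fpf K htt hfpf
    have hKbot : K = ⊥ := h.noab K hK hab
    obtain ⟨⟨k, hk⟩, hkx⟩ := hKtrans.exists_smul_eq α x0
    have hk1 : k = 1 := by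
      rw [hKbot, Subgroup.mem_bot] at hk
      exact hk
    apply hx0α
    have hkx' : k • α = x0 := hkx
    rw [← hkx', hk1, one_smul]

end Cfsg.Agent.Lib.Helper72.CTI
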